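import Mathlib

set_option autoImplicit false

namespace Cfsg.Agent.Lib.Helper23

theorem mem_frattini_iff {G : Type*} [Group G] (g : G) :
    g ∈ frattini G ↔ ∀ M : Subgroup G, IsCoatom M → g ∈ M := by
  unfold frattini Order.radical
  simp [Subgroup.mem_iInf]

/-- Maximal subgroups of a finite `p`-group are normal of index `p`. -/
theorem coatom_normal_of_isPGroup {P : Type*} [Group P] [Finite P] {p : ℕ} [Fact p.Prime]
    (hP : IsPGroup p P) (M : Subgroup P) (hM : IsCoatom M) : M.Normal := by
  have := hP.isNilpotent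
  exact Subgroup.NormalizerCondition.normal_of_coatom M Group.normalizerCondition_of_isNilpotent hM

theorem coatom_index_of_isPGroup {P : Type*} [Group P] [Finite P] {p : ℕ} [hp : Fact p.Prime]
    (hP : IsPGroup p P) (M : Subgroup P) (hM : IsCoatom M) : M.index = p := by
  have hn := coatom_normal_of_isPGroup hP M hM
  obtain ⟨k, hk⟩ := hP.index M
  have hk0 : k ≠ 0 := by
    rintro rfl
    rw [pow_zero, Subgroup.index_eq_one] at hk
    exact hM.1 hk
  have hcard : Nat.card (P ⧸ M) = p ^ k := hk
  have hdvd : p ^ 1 ∣ Nat.card (P ⧸ M) := by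
    rw [hcard]; exact pow_dvd_pow p (Nat.one_le_iff_ne_zero.2 hk0)
  obtain ⟨K, hK⟩ := Sylow.exists_subgroup_card_pow_prime p hdvd
  rw [pow_one] at hK
  have hle : M ≤ K.comap (QuotientGroup.mk' M) := by
    intro x hx
    rw [Subgroup.mem_comap]
    have : QuotientGroup.mk' M x = 1 := (QuotientGroup.eq_one_iff x).2 hx
    rw [this]; exact K.one_mem
  rcases eq_or_lt_of_le hle with h | h
  · exfalso
    have hKbot : K = ⊥ := by
      rw [eq_bot_iff]
      intro y hy
      obtain ⟨x, rfl⟩ := QuotientGroup.mk'_surjective M y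
      have : x ∈ M := by rw [h]; exact hy
      rw [Subgroup.mem_bot]
      exact (QuotientGroup.eq_one_iff x).2 this
    rw [hKbot, Subgroup.card_bot] at hK
    exact hp.out.one_lt.ne hK
  · have htop := hM.2 _ h
    have hKtop : K = ⊤ := by
      rw [eq_top_iff]
      intro y _
      obtain ⟨x, rfl⟩ := QuotientGroup.mk'_surjective M y
      have : x ∈ K.comap (QuotientGroup.mk' M) := by rw [htop]; trivial
      exact this
    rw [hKtop, Subgroup.card_top] at hK
    exact hK

theorem pow_mem_frattini {P : Type*} [Group P] [Finite P] {p : ℕ} [Fact p.Prime]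
    (hP : IsPGroup p P) (x : P) : x ^ p ∈ frattini P := by
  rw [mem_frattini_iff]
  intro M hM
  have hn := coatom_normal_of_isPGroup hP M hM
  have := Subgroup.pow_index_mem M x
  rwa [coatom_index_of_isPGroup hP M hM] at this

theorem comm_mem_frattini {P : Type*} [Group P] [Finite P] {p : ℕ} [hp : Fact p.Prime]
    (hP : IsPGroup p P) (x y : P) : (x * y)⁻¹ * (y * x) ∈ frattini P := by
  rw [mem_frattini_iff]
  intro M hM
  have hn := coatom_normal_of_isPGroup hP M hM
  have hc : Nat.card (P ⧸ M) = p := coatom_index_of_isPGroup hP M hM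
  have hcyc : IsCyclic (P ⧸ M) := isCyclic_of_prime_card hc
  have hcomm : (x : P ⧸ M) * (y : P ⧸ M) = (y : P ⧸ M) * (x : P ⧸ M) := by
    let _ := IsCyclic.commGroup (α := P ⧸ M)
    exact mul_comm _ _
  rw [← QuotientGroup.eq]
  exact hcomm

end Cfsg.Agent.Lib.Helper23
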