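import Cfsg.Agent.Lib.Helper17.Syl
import Cfsg.Agent.Lib.Helper23.Core

set_option autoImplicit false

namespace Cfsg.Agent.Lib.Helper23

open Cfsg.Agent.Lib.Helper17

variable {G : Type*} [Group G]

theorem normalizer_eq_subgroupOf (H : Subgroup G) (S : Subgroup H) :
    Subgroup.normalizer (S : Set H) =
      (Subgroup.normalizer ((S.map H.subtype : Subgroup G) : Set G)).subgroupOf H := by
  ext x
  rw [Subgroup.mem_subgroupOf, Subgroup.mem_normalizer_iff, Subgroup.mem_normalizer_iff]
  constructor
  · intro h y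
    constructor
    · rintro ⟨z, hz, rfl⟩
      exact ⟨x * z * x⁻¹, (h z).1 hz, rfl⟩
    · rintro ⟨z, hz, hzy⟩
      have hy : y = (x⁻¹ * z * x : H) := by
        have : (z : G) = x * y * (x : G)⁻¹ := hzy
        simp [this, mul_assoc]
      refine ⟨x⁻¹ * z * x, ?_, hy.symm⟩
      rw [SetLike.mem_coe, h]
      have : x * (x⁻¹ * z * x) * x⁻¹ = z := by group
      rw [this]; exact hz
  · intro h z
    constructor
    · intro hz
      obtain ⟨w, hw, hwe⟩ := (h z).1 ⟨z, hz, rfl⟩
      have : w = x * z * x⁻¹ := Subtype.ext hwe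
      rwa [← this]
    · intro hz
      obtain ⟨w, hw, hwe⟩ := (h z).2 ⟨x * z * x⁻¹, hz, rfl⟩
      have : w = z := Subtype.ext hwe
      rwa [← this]

/-- The number of Sylow subgroups of a subgroup, in ambient form. -/
theorem card_sylow_eq_relIndex [Finite G] {p : ℕ} [Fact p.Prime] {T H : Subgroup G}
    (hT : IsSyl p T H) :
    Nat.card (Sylow p H) = (Subgroup.normalizer (T : Set G)).relIndex H := by
  obtain ⟨S, rfl⟩ := hT
  rw [S.card_eq_index_normalizer, Subgroup.relIndex, ← normalizer_eq_subgroupOf]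
  rfl

theorem card_sylow_eq_index [Finite G] {p : ℕ} [Fact p.Prime] (P : Sylow p G) :
    Nat.card (Sylow p G) = (Subgroup.normalizer ((P : Subgroup G) : Set G)).index :=
  P.card_eq_index_normalizer

theorem card_sylow_quotient [Finite G] {p : ℕ} [Fact p.Prime] (K : Subgroup G) [K.Normal]
    (P : Sylow p G) :
    Nat.card (Sylow p (G ⧸ K)) =
      (Subgroup.normalizer (((P : Subgroup G) ⊔ K : Subgroup G) : Set G)).index := by
  have hs := QuotientGroup.mk'_surjective K
  rw [card_sylow_eq_index (P.mapSurjective hs), Sylow.coe_mapSurjective,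
    ← Subgroup.index_comap_of_surjective _ hs, Subgroup.comap_normalizer_eq_of_surjective _ hs,
    Subgroup.comap_map_eq, QuotientGroup.ker_mk']

theorem card_sylow_quotient_of_le [Finite G] {p : ℕ} [Fact p.Prime] (K : Subgroup G) [K.Normal]
    (P : Sylow p G) (hK : K ≤ P) : Nat.card (Sylow p (G ⧸ K)) = Nat.card (Sylow p G) := by
  rw [card_sylow_quotient K P, sup_eq_left.2 hK, card_sylow_eq_index P]

theorem relIndex_eq_relIndex_sup_of_le_normalizer [Finite G] (H N : Subgroup G)
    (h : H ≤ Subgroup.normalizer (N : Set G)) : H.relIndex N = H.relIndex (H ⊔ N) := by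
  have hle : H ⊔ N ≤ Subgroup.normalizer (N : Set G) := sup_le h Subgroup.le_normalizer
  have hn : (N.subgroupOf (H ⊔ N)).Normal :=
    (Subgroup.normal_subgroupOf_iff_le_normalizer le_sup_right).mpr hle
  have h1 := relIndex_eq_relIndex_sup (H.subgroupOf (H ⊔ N)) (N.subgroupOf (H ⊔ N))
  rw [← Subgroup.subgroupOf_sup le_sup_left le_sup_right,
    Subgroup.relIndex_subgroupOf le_sup_right, Subgroup.relIndex_subgroupOf le_rfl] at h1
  exact h1

/-- M. Hall's product formula for the Sylow number, in ambient form. -/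
theorem sylow_number_formula [Finite G] {p : ℕ} [Fact p.Prime] (K : Subgroup G) [hK : K.Normal]
    (P : Sylow p G) :
    (Subgroup.normalizer ((P : Subgroup G) : Set G)).index =
      (Subgroup.normalizer (((P : Subgroup G) ⊔ K : Subgroup G) : Set G)).index *
      (Subgroup.normalizer (((P : Subgroup G) ⊓ K : Subgroup G) : Set G)).relIndex K *
      (Subgroup.normalizer ((P : Subgroup G) : Set G)).relIndex
        (((P : Subgroup G) ⊔ K) ⊓
          Subgroup.normalizer (((P : Subgroup G) ⊓ K : Subgroup G) : Set G)) := by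
  set M := Subgroup.normalizer ((P : Subgroup G) : Set G) with hM
  set L := Subgroup.normalizer (((P : Subgroup G) ⊔ K : Subgroup G) : Set G) with hL
  set NR := Subgroup.normalizer (((P : Subgroup G) ⊓ K : Subgroup G) : Set G) with hNR
  set N := ((P : Subgroup G) ⊔ K) ⊓ NR with hN
  have hKn : ∀ X : Subgroup G, X ≤ Subgroup.normalizer (K : Set G) := by
    intro X
    rw [Subgroup.normalizer_eq_top_iff.2 hK]; exact le_top
  have hML : M ≤ L := le_normalizer_sup le_rfl (hKn M)
  have hMNR : M ≤ NR := le_normalizer_inf le_rfl (hKn M)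
  have hPM : (P : Subgroup G) ≤ M := Subgroup.le_normalizer
  have hPKL : (P : Subgroup G) ⊔ K ≤ L := Subgroup.le_normalizer
  have hKL : K ≤ L := le_sup_right.trans hPKL
  have hMLR : M ≤ L ⊓ NR := le_inf hML hMNR
  have hPN : (P : Subgroup G) ≤ N := le_inf le_sup_left (hPM.trans hMNR)
  have hNLR : N ≤ L ⊓ NR := inf_le_inf_right _ hPKL
  -- first Frattini argument
  have hF1 : L = (L ⊓ NR) ⊔ K := by
    apply le_antisymm
    · intro m hm
      have hsyl : IsSyl p (P : Subgroup G) ((P : Subgroup G) ⊔ K) :=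
        (isSyl_top P).of_le le_sup_left le_top
      obtain ⟨n, hn, hnm⟩ := frattini_arg hsyl (M := L) le_rfl hm
      have e : m = n * (n⁻¹ * m) := by group
      rw [e]
      apply mul_mem
      · have : (P : Subgroup G) ⊔ K ≤ (L ⊓ NR) ⊔ K :=
          sup_le ((hPM.trans hMLR).trans le_sup_left) le_sup_right
        exact this hn
      · exact (le_sup_left : L ⊓ NR ≤ _) (hMLR hnm)
    · exact sup_le inf_le_left hKL
  -- second Frattini argument
  have hF2 : L ⊓ NR = M ⊔ N := by
    apply le_antisymm
    · intro m hm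
      have hsyl : IsSyl p (P : Subgroup G) N := (isSyl_top P).of_le hPN le_top
      have hnorm : L ⊓ NR ≤ Subgroup.normalizer (N : Set G) :=
        le_normalizer_inf inf_le_left (inf_le_right.trans Subgroup.le_normalizer)
      obtain ⟨n, hn, hnm⟩ := frattini_arg hsyl hnorm hm
      have e : m = n * (n⁻¹ * m) := by group
      rw [e]
      exact mul_mem ((le_sup_right : N ≤ M ⊔ N) hn) ((le_sup_left : M ≤ M ⊔ N) hnm)
    · exact sup_le hMLR hNLR
  have h1 : M.relIndex L * L.index = M.index := Subgroup.relIndex_mul_index hML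
  have h2 : M.relIndex (L ⊓ NR) * (L ⊓ NR).relIndex L = M.relIndex L :=
    Subgroup.relIndex_mul_relIndex _ _ _ hMLR inf_le_left
  have h3 : (L ⊓ NR).relIndex L = NR.relIndex K := by
    have e1 := relIndex_eq_relIndex_sup (L ⊓ NR) K
    rw [← hF1] at e1
    rw [← e1, ← Subgroup.inf_relIndex_right (L ⊓ NR) K, ← Subgroup.inf_relIndex_right NR K]
    congr 1
    rw [inf_comm L NR, inf_assoc, inf_eq_right.2 hKL]
  have h4 : M.relIndex (L ⊓ NR) = M.relIndex N := by
    have hnorm : M ≤ Subgroup.normalizer (N : Set G) :=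
      hMLR.trans (le_normalizer_inf inf_le_left (inf_le_right.trans Subgroup.le_normalizer))
    rw [hF2, ← relIndex_eq_relIndex_sup_of_le_normalizer M N hnorm]
  rw [← h1, ← h2, h3, h4]
  ring

end Cfsg.Agent.Lib.Helper23
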