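import Mathlib

set_option autoImplicit false

namespace Cfsg.Agent.Lib.Helper23

open Subgroup
open scoped Pointwise

theorem iInf_sylow_normal {G : Type*} [Group G] (p : ℕ) :
    (⨅ P : Sylow p G, (P : Subgroup G)).Normal := by
  constructor
  intro n hn g
  rw [Subgroup.mem_iInf] at hn ⊢
  intro P
  have h5 := hn (g⁻¹ • P)
  rw [Sylow.coe_subgroup_smul, Subgroup.mem_pointwise_smul_iff_inv_smul_mem] at h5
  simpa [MulAut.smul_def] using h5

theorem isMulCommutative_of_simple_pgroup {G : Type*} [Group G] [Finite G] [IsSimpleGroup G] {p : ℕ}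
    [Fact p.Prime] (hpg : IsPGroup p G) : IsMulCommutative G := by
  have hnt : Nontrivial (Subgroup.center G) := hpg.center_nontrivial
  have hcn : (Subgroup.center G).Normal := inferInstance
  rcases hcn.eq_bot_or_eq_top with hb | ht'
  · exfalso
    rw [Subgroup.nontrivial_iff_ne_bot] at hnt
    exact hnt hb
  · constructor; constructor
    intro a b
    have : a ∈ Subgroup.center G := ht' ▸ Subgroup.mem_top a
    exact (Subgroup.mem_center_iff.mp this b).symm

theorem normal_pgroup_eq_bot_of_simple {G : Type*} [Group G] [Finite G] [IsSimpleGroup G]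
    (hG : ¬ IsMulCommutative G) {p : ℕ} [Fact p.Prime] (N : Subgroup G) (hN : N.Normal)
    (hp : IsPGroup p N) : N = ⊥ := by
  rcases hN.eq_bot_or_eq_top with hb | ht
  · exact hb
  · exfalso
    apply hG
    rw [ht] at hp
    exact isMulCommutative_of_simple_pgroup (IsPGroup.of_equiv hp Subgroup.topEquiv)

theorem sylow_card_eq {G : Type*} [Group G] [Finite G] {p : ℕ} [Fact p.Prime] (P Q : Sylow p G) :
    Nat.card (P : Subgroup G) = Nat.card (Q : Subgroup G) :=
  (Sylow.card_eq_multiplicity P).trans (Sylow.card_eq_multiplicity Q).symm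

/-- The size of the orbit of `Q` under `P` is `[P : P ∩ Q]`. -/
theorem relIndex_sylow_eq_ncard_orbit {G : Type*} [Group G] [Finite G] {p : ℕ} [Fact p.Prime]
    (P Q : Sylow p G) :
    (Q : Subgroup G).relIndex (P : Subgroup G) = (MulAction.orbit (P : Subgroup G) Q).ncard := by
  rw [← MulAction.index_stabilizer]
  have h1 : MulAction.stabilizer (P : Subgroup G) Q =
      (Subgroup.normalizer ((Q : Subgroup G) : Set G)).subgroupOf (P : Subgroup G) := by
    ext x
    rw [MulAction.mem_stabilizer_iff, mem_subgroupOf, Q.coe_coe, ← Sylow.smul_eq_iff_mem_normalizer]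
    rfl
  rw [h1]
  show _ = (Subgroup.normalizer ((Q : Subgroup G) : Set G)).relIndex (P : Subgroup G)
  rw [← inf_relIndex_left (P : Subgroup G) (Q : Subgroup G), ← IsPGroup.inf_normalizer_sylow P.2 Q,
    inf_relIndex_left, Q.coe_coe]

end Cfsg.Agent.Lib.Helper23
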