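import Mathlib
import Cfsg.Agent.Lib.Helper13.StrongClosed
import Cfsg.Agent.Lib.Helper13.Tate
import Cfsg.Agent.Lib.Helper22.PIndex
import Cfsg.Agent.Lib.Helper1.Coprime
import Cfsg.Agent.Lib.Helper23.FrattiniP

set_option autoImplicit false

namespace Cfsg.Agent.Lib.Helper23.HSub

open Cfsg.Agent.Lib.Helper13

variable {G : Type*} [Group G]

/-- an element normalizing a cyclic subgroup, of order prime to the order of its automorphism group,
centralizes it -/
theorem mem_centralizer_of_isCyclic {Q : Type*} [Group Q] [Finite Q] (C : Subgroup Q) (hC : IsCyclic C)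
    (z : Q) (hz : z ∈ Subgroup.normalizer (C : Set Q))
    (hco : (orderOf z).Coprime (Nat.totient (Nat.card C))) :
    z ∈ Subgroup.centralizer (C : Set Q) := by
  let α : MulAut C := C.normalizerMonoidHom ⟨z, hz⟩
  have h1 : orderOf α ∣ orderOf z := by
    have := orderOf_map_dvd C.normalizerMonoidHom (⟨z, hz⟩ : Subgroup.normalizer (C : Set Q))
    rwa [Subgroup.orderOf_mk] at this
  have h2 : orderOf α ∣ Nat.totient (Nat.card C) := by
    rw [← hC.card_mulAut]; exact orderOf_dvd_natCard α
  have h3 : orderOf α = 1 := Nat.eq_one_of_dvd_coprimes hco h1 h2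
  have h4 : α = 1 := orderOf_eq_one_iff.mp h3
  rw [Subgroup.mem_centralizer_iff]
  intro c hc
  have h5 : ((α ⟨c, hc⟩ : C) : Q) = c := by rw [h4]; rfl
  have h6 : ((α ⟨c, hc⟩ : C) : Q) = z * c * z⁻¹ := rfl
  rw [h6] at h5
  calc c * z = (z * c * z⁻¹) * z := by rw [h5]
    _ = z * c := by group

theorem mem_normalizer_of_conj_mem [Finite G] {E : Subgroup G} {x : G}
    (h : ∀ e ∈ E, x * e * x⁻¹ ∈ E) : x ∈ Subgroup.normalizer (E : Set G) := by
  have h1 : cj E x⁻¹ ≤ E := by
    intro u hu
    rw [mem_cj] at hu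
    have := h _ hu
    have e : x * (x⁻¹ * u * x⁻¹⁻¹) * x⁻¹ = u := by group
    rwa [e] at this
  have h2 := mem_normalizer_iff_cj.mpr (cj_eq_of_le_of_finite h1)
  simpa using inv_mem h2

/-- subgroups of prescribed order between two `p`-subgroups -/
theorem exists_between [Finite G] {p : ℕ} [Fact p.Prime] {H V : Subgroup G} (hV : IsPGroup p V)
    (hHV : H ≤ V) {m : ℕ} (hH : Nat.card H ≤ p ^ m) (hm : p ^ m ≤ Nat.card V) :
    ∃ K : Subgroup G, H ≤ K ∧ K ≤ V ∧ Nat.card K = p ^ m := by
  have hp : p.Prime := Fact.out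
  obtain ⟨n, hn⟩ := hV.exists_card_eq
  obtain ⟨a, ha⟩ := (hV.to_le hHV).exists_card_eq
  have ham : a ≤ m := by
    rw [ha] at hH
    exact (Nat.pow_le_pow_iff_right hp.one_lt).mp hH
  have hmn : m ≤ n := by
    rw [hn] at hm
    exact (Nat.pow_le_pow_iff_right hp.one_lt).mp hm
  have hc : Nat.card (H.subgroupOf V) = p ^ a := by
    rw [← ha]
    exact Nat.card_congr (Subgroup.subgroupOfEquivOfLe hHV).toEquiv
  obtain ⟨K', hK', hHK'⟩ := Sylow.exists_subgroup_card_pow_prime_le p
    (by rw [hn]; exact pow_dvd_pow p hmn : p ^ m ∣ Nat.card V) (H.subgroupOf V) hc ham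
  refine ⟨K'.map V.subtype, ?_, Subgroup.map_subtype_le _, ?_⟩
  · intro h hh
    exact ⟨⟨h, hHV hh⟩, hHK' (Subgroup.mem_subgroupOf.mpr hh), rfl⟩
  · rw [← hK']
    exact Nat.card_congr (K'.equivMapOfInjective V.subtype V.subtype_injective).toEquiv.symm

/-- an `ℋ`-subgroup of a `p`-subgroup `P` is strongly closed in `P` -/
theorem strongly_closed_of_H [Finite G] {p : ℕ} [Fact p.Prime] {P E : Subgroup G} (hP : IsPGroup p P)
    (hEP : E ≤ P)
    (h : ∀ g : G, E.map (MulAut.conj g).toMonoidHom ⊓ Subgroup.normalizer (E : Set G) ≤ E) :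
    ∀ a ∈ E, ∀ g : G, g⁻¹ * a * g ∈ P → g⁻¹ * a * g ∈ E := by
  have hPN : P ≤ Subgroup.normalizer (E : Set G) := by
    by_contra hcon
    have hlt : P ⊓ Subgroup.normalizer (E : Set G) < P :=
      lt_of_le_of_ne inf_le_left (fun he => hcon (he ▸ inf_le_right))
    obtain ⟨x, hx, hx'⟩ := SetLike.exists_of_lt (lt_inf_normalizer hP hlt)
    obtain ⟨hxP, hxN⟩ := Subgroup.mem_inf.mp hx
    apply hx'
    refine Subgroup.mem_inf.mpr ⟨hxP, mem_normalizer_of_conj_mem ?_⟩
    intro e he
    apply h x
    refine Subgroup.mem_inf.mpr ⟨⟨e, he, rfl⟩, ?_⟩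
    have h1 : e ∈ P ⊓ Subgroup.normalizer (E : Set G) :=
      Subgroup.mem_inf.mpr ⟨hEP he, Subgroup.le_normalizer he⟩
    exact (Subgroup.mem_inf.mp ((Subgroup.mem_normalizer_iff.mp hxN e).mp h1)).2
  intro a ha g hg
  apply h g⁻¹
  refine Subgroup.mem_inf.mpr ⟨⟨a, ha, ?_⟩, hPN hg⟩
  simp

theorem coprime_pred {n p m : ℕ} (hp : p.Prime) (hmin : ∀ q : ℕ, q.Prime → q ∣ n → p ≤ q)
    (hm : m ∣ n) : m.Coprime (p - 1) := by
  by_contra hcon
  obtain ⟨q, hq, h1, h2⟩ := Nat.Prime.not_coprime_iff_dvd.mp hcon
  have h3 := hmin q hq (h1.trans hm)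
  have h4 := Nat.le_of_dvd (by have := hp.two_le; omega) h2
  have := hp.two_le
  omega

theorem coprime_totient_pow {p m k : ℕ} (hp : p.Prime) (h1 : m.Coprime p) (h2 : m.Coprime (p - 1)) :
    m.Coprime (Nat.totient (p ^ k)) := by
  rcases Nat.eq_zero_or_pos k with rfl | hk
  · simp
  · rw [Nat.totient_prime_pow hp hk]
    exact Nat.Coprime.mul_right (Nat.Coprime.pow_right _ h1) h2

/-- an element of order prime to `p - 1` acts trivially on a section of order `p` -/
theorem comm_mem_of_relIndex_prime [Finite G] {p : ℕ} [Fact p.Prime] {A B : Subgroup G}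
    (hBA : B ≤ Subgroup.normalizer (A : Set G)) (hidx : A.relIndex B = p) (y : G)
    (hyA : y ∈ Subgroup.normalizer (A : Set G)) (hyB : y ∈ Subgroup.normalizer (B : Set G))
    (hco : (orderOf y).Coprime (p - 1)) : ∀ b ∈ B, b⁻¹ * (y⁻¹ * b * y) ∈ A := by
  have hp : p.Prime := Fact.out
  set N := Subgroup.normalizer (A : Set G) with hN
  have hn : (A.subgroupOf N).Normal := Subgroup.normal_in_normalizer
  let π := QuotientGroup.mk' (A.subgroupOf N)
  set C := (B.subgroupOf N).map π with hCdef
  have hcard : Nat.card C = p := by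
    rw [← Subgroup.relIndex_bot_left, hCdef, ← Subgroup.relIndex_comap, MonoidHom.comap_bot,
      QuotientGroup.ker_mk', Subgroup.relIndex_subgroupOf hBA, hidx]
  have hcyc : IsCyclic C := isCyclic_of_prime_card hcard
  have hz : π ⟨y, hyA⟩ ∈ Subgroup.normalizer (C : Set (N ⧸ A.subgroupOf N)) := by
    apply Subgroup.le_normalizer_map
    refine ⟨⟨y, hyA⟩, ?_, rfl⟩
    apply Subgroup.le_normalizer_comap
    exact hyB
  have hord : orderOf (π ⟨y, hyA⟩) ∣ orderOf y := by
    have := orderOf_map_dvd π (⟨y, hyA⟩ : N)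
    rwa [Subgroup.orderOf_mk] at this
  have hcen := mem_centralizer_of_isCyclic C hcyc _ hz (by
    rw [hcard, Nat.totient_prime hp]
    exact Nat.Coprime.coprime_dvd_left hord hco)
  intro b hb
  have h1 := (Subgroup.mem_centralizer_iff.mp hcen) (π ⟨b, hBA hb⟩)
    ⟨⟨b, hBA hb⟩, Subgroup.mem_subgroupOf.mpr hb, rfl⟩
  have h2 : π ((⟨b, hBA hb⟩ : N)⁻¹ * ((⟨y, hyA⟩ : N)⁻¹ * ⟨b, hBA hb⟩ * ⟨y, hyA⟩)) = 1 := by
    rw [map_mul, map_mul, map_mul, map_inv, map_inv, mul_assoc (π ⟨y, hyA⟩)⁻¹, h1]
    group
  have h3 := (QuotientGroup.eq_one_iff _).mp h2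
  exact Subgroup.mem_subgroupOf.mp h3

/-- Lemma A: a `p'`-element (of order prime to `p - 1`) normalizing all subgroups of order `p ^ d` of a
`p`-group `U` of larger order centralizes `U`. -/
theorem centralizes_of_fam [Finite G] {p : ℕ} [Fact p.Prime] (d : ℕ) (hd : 1 ≤ d) (y : G)
    (hyp : (orderOf y).Coprime p) (hy1 : (orderOf y).Coprime (p - 1)) :
    ∀ n : ℕ, ∀ U : Subgroup G, Nat.card U = n → IsPGroup p U →
      y ∈ Subgroup.normalizer (U : Set G) → p ^ d < Nat.card U →
      (∀ E : Subgroup G, E ≤ U → (Nat.card E = p ^ d ∨ (p ^ d = 2 ∧ Nat.card E = 4)) →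
        y ∈ Subgroup.normalizer (E : Set G)) →
      ∀ x ∈ U, y * x * y⁻¹ = x := by
  have hp : p.Prime := Fact.out
  intro n
  induction n using Nat.strong_induction_on with
  | _ n ih =>
    intro U hUn hU hyU hdU hfam
    have key : ∀ x ∈ U, x ^ (if p = 2 then 4 else p) = 1 → y * x * y⁻¹ = x := by
      intro x hxU hxe
      have hcen_of_cyc : ∀ E : Subgroup G, IsCyclic E → (∃ k, Nat.card E = p ^ k) →
          y ∈ Subgroup.normalizer (E : Set G) → x ∈ E → y * x * y⁻¹ = x := by
        rintro E hE ⟨k, hk⟩ hyE hxE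
        have := mem_centralizer_of_isCyclic E hE y hyE
          (by rw [hk]; exact coprime_totient_pow hp hyp hy1)
        have h2 := (Subgroup.mem_centralizer_iff.mp this) x hxE
        rw [← h2]; group
      by_cases hsmall : orderOf x ≤ p ^ d
      · obtain ⟨E, hxE, hEU, hEc⟩ := exists_between hU ((Subgroup.zpowers_le).mpr hxU) (m := d)
          (by rw [Nat.card_zpowers]; exact hsmall) hdU.le
        have hxE' : x ∈ E := hxE (Subgroup.mem_zpowers x)
        have hyE := hfam E hEU (Or.inl hEc)
        obtain ⟨n', hn'⟩ := hU.exists_card_eq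
        have hdn : d + 1 ≤ n' := by
          rw [hn'] at hdU
          exact (Nat.pow_lt_pow_iff_right hp.one_lt).mp hdU
        obtain ⟨F, hEF, hFU, hFc⟩ := exists_between hU hEU (m := d + 1)
          (by rw [hEc]; exact Nat.pow_le_pow_right hp.pos (Nat.le_succ d))
          (by rw [hn']; exact Nat.pow_le_pow_right hp.pos hdn)
        by_cases hFtop : Nat.card U = p ^ (d + 1)
        · -- Frattini argument
          have hcent := Cfsg.Agent.Lib.Helper1.coprime_frattini_trivial (Subgroup.zpowers y) U
            ((Subgroup.zpowers_le).mpr hyU) ?_ ?_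
          · have h2 := (Subgroup.mem_centralizer_iff.mp (hcent (Subgroup.mem_zpowers y))) x hxU
            rw [← h2]; group
          · rw [Nat.card_zpowers]
            obtain ⟨j, hj⟩ := (hU.to_subgroup (frattini U)).exists_card_eq
            rw [hj]; exact Nat.Coprime.pow_right _ hyp
          · intro a ha k hk
            have haU : a ∈ Subgroup.normalizer (U : Set G) := ((Subgroup.zpowers_le).mpr hyU) ha
            have hmemU : a * k * a⁻¹ * k⁻¹ ∈ U :=
              U.mul_mem ((Subgroup.mem_normalizer_iff.mp haU k).mp hk) (U.inv_mem hk)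
            refine ⟨⟨a * k * a⁻¹ * k⁻¹, hmemU⟩, ?_, rfl⟩
            rw [SetLike.mem_coe, mem_frattini_iff]
            intro Y hY
            have hYn := coatom_normal_of_isPGroup hU Y hY
            have hYi := coatom_index_of_isPGroup hU Y hY
            have hYc : Nat.card Y = p ^ d := by
              have h1 := Subgroup.card_mul_index Y
              rw [hYi, hFtop, pow_succ] at h1
              exact Nat.eq_of_mul_eq_mul_right hp.pos h1
            have hMc : Nat.card (Y.map U.subtype) = p ^ d := by
              rw [← hYc]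
              exact Nat.card_congr (Y.equivMapOfInjective U.subtype U.subtype_injective).toEquiv.symm
            have hyM := hfam (Y.map U.subtype) (Subgroup.map_subtype_le _) (Or.inl hMc)
            have haM : a ∈ Subgroup.normalizer ((Y.map U.subtype : Subgroup G) : Set G) :=
              ((Subgroup.zpowers_le).mpr hyM) ha
            have hUM : U ≤ Subgroup.normalizer ((Y.map U.subtype : Subgroup G) : Set G) := by
              apply Cfsg.Agent.Lib.Helper17.le_normalizer_of_conj_mem
              rintro u hu _ ⟨w, hw, rfl⟩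
              exact ⟨⟨u, hu⟩ * w * ⟨u, hu⟩⁻¹, hYn.conj_mem w hw ⟨u, hu⟩, rfl⟩
            have hidx : (Y.map U.subtype).relIndex U = p := by
              rw [Subgroup.relIndex, Subgroup.subgroupOf,
                Subgroup.comap_map_eq_self_of_injective (Subgroup.subtype_injective _), hYi]
            have hoa : (orderOf a⁻¹).Coprime (p - 1) := by
              rw [orderOf_inv]
              exact Nat.Coprime.coprime_dvd_left (orderOf_dvd_of_mem_zpowers ha) hy1
            have h5 := comm_mem_of_relIndex_prime hUM hidx a⁻¹ (inv_mem haM) (inv_mem haU) hoa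
              k⁻¹ (inv_mem hk)
            have h6 := inv_mem h5
            have e : (k⁻¹⁻¹ * (a⁻¹⁻¹ * k⁻¹ * a⁻¹))⁻¹ = a * k * a⁻¹ * k⁻¹ := by group
            rw [e] at h6
            obtain ⟨w, hw, e2⟩ := h6
            have : w = ⟨a * k * a⁻¹ * k⁻¹, hmemU⟩ := Subtype.ext e2
            rwa [this] at hw
        · have hFlt : Nat.card F < Nat.card U := by
            have : Nat.card F ≤ Nat.card U := Subgroup.card_le_of_le hFU
            omega
          by_cases hyF : y ∈ Subgroup.normalizer (F : Set G)
          · exact ih (Nat.card F) (hUn ▸ hFlt) F rfl (hU.to_le hFU) hyF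
              (by rw [hFc]; exact Nat.pow_lt_pow_right hp.one_lt (Nat.lt_succ_self d))
              (fun E' hE' hc => hfam E' (hE'.trans hFU) hc) x (hEF hxE')
          · have huniq : ∀ E' : Subgroup G, E' ≤ F → Nat.card E' = p ^ d → E' = E := by
              intro E' hE'F hE'c
              by_contra hne
              apply hyF
              have hsup : E ⊔ E' = F := by
                have hle : E ⊔ E' ≤ F := sup_le hEF hE'F
                have hlt : E < E ⊔ E' := by
                  refine lt_of_le_of_ne le_sup_left ?_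
                  intro he
                  have h1 : E' ≤ E := he ▸ le_sup_right
                  exact hne (Subgroup.eq_of_le_of_card_ge h1 (by rw [hEc, hE'c]))
                have hc1 := card_lt_card_of_lt hlt
                obtain ⟨j, hj⟩ := ((hU.to_le hFU).to_le hle).exists_card_eq
                rw [hEc, hj] at hc1
                have hdj : d < j := (Nat.pow_lt_pow_iff_right hp.one_lt).mp hc1
                apply Subgroup.eq_of_le_of_card_ge hle
                rw [hFc, hj]
                exact Nat.pow_le_pow_right hp.pos hdj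
              rw [← hsup]
              have hyE' := hfam E' (hE'F.trans hFU) (Or.inl hE'c)
              exact (Cfsg.Agent.Lib.Helper17.le_normalizer_sup (K := Subgroup.zpowers y)
                ((Subgroup.zpowers_le).mpr hyE) ((Subgroup.zpowers_le).mpr hyE'))
                (Subgroup.mem_zpowers y)
            have hEltF : E < F := by
              refine lt_of_le_of_ne hEF ?_
              intro he
              have h1 : Nat.card E = Nat.card F := by rw [he]
              rw [hEc, hFc] at h1
              have := Nat.pow_lt_pow_right hp.one_lt (by omega : d < d + 1)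
              omega
            obtain ⟨f, hfF, hfE⟩ := SetLike.exists_of_lt hEltF
            have hFz : Subgroup.zpowers f = F := by
              by_contra hne
              have hle : Subgroup.zpowers f ≤ F := (Subgroup.zpowers_le).mpr hfF
              have hlt : Subgroup.zpowers f < F := lt_of_le_of_ne hle hne
              have hc1 := card_lt_card_of_lt hlt
              obtain ⟨j, hj⟩ := ((hU.to_le hFU).to_le hle).exists_card_eq
              rw [hFc, hj] at hc1
              have hjd : j < d + 1 := (Nat.pow_lt_pow_iff_right hp.one_lt).mp hc1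
              obtain ⟨E', h1, h2, h3⟩ := exists_between (hU.to_le hFU) hle (m := d)
                (by rw [hj]; exact Nat.pow_le_pow_right hp.pos (by omega))
                (by rw [hFc]; exact Nat.pow_le_pow_right hp.pos (Nat.le_succ d))
              rw [huniq E' h2 h3] at h1
              exact hfE (h1 (Subgroup.mem_zpowers f))
            have hcycE : IsCyclic E := by
              have hle : E ≤ Subgroup.zpowers f := hFz ▸ hEF
              exact Subgroup.isCyclic_of_le hle
            exact hcen_of_cyc E hcycE ⟨d, hEc⟩ hyE hxE'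
      · rw [not_le] at hsmall
        have hdvd := orderOf_dvd_of_pow_eq_one hxe
        split_ifs at hdvd with hp2
        · have h4 : orderOf x ∣ 2 ^ 2 := by simpa using hdvd
          obtain ⟨k, hk, hk2⟩ := (Nat.dvd_prime_pow Nat.prime_two).1 h4
          have hpd : 2 ≤ p ^ d := by
            calc 2 = p ^ 1 := by rw [hp2]
              _ ≤ p ^ d := Nat.pow_le_pow_right hp.pos hd
          have hk2' : k = 2 := by
            interval_cases k
            · rw [pow_zero] at hk2; omega
            · rw [pow_one] at hk2; omega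
            · rfl
          rw [hk2'] at hk2
          have hpd2 : p ^ d = 2 := by
            by_contra hne
            have hd2 : 2 ≤ d := by
              by_contra hlt
              have : d = 1 := by omega
              rw [this, pow_one] at hne
              exact hne hp2
            have : p ^ 2 ≤ p ^ d := Nat.pow_le_pow_right hp.pos hd2
            rw [hp2] at this hsmall
            omega
          have hc4 : Nat.card (Subgroup.zpowers x) = 4 := by
            rw [Nat.card_zpowers, hk2]; norm_num
          have hyE := hfam (Subgroup.zpowers x) ((Subgroup.zpowers_le).mpr hxU) (Or.inr ⟨hpd2, hc4⟩)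
          exact hcen_of_cyc _ inferInstance ⟨2, by rw [hc4, hp2]; norm_num⟩ hyE (Subgroup.mem_zpowers x)
        · exfalso
          have h1 := Nat.le_of_dvd hp.pos hdvd
          have h2 : p ^ 1 ≤ p ^ d := Nat.pow_le_pow_right hp.pos hd
          rw [pow_one] at h2
          omega
    let α : MulAut U := U.normalizerMonoidHom ⟨y, hyU⟩
    have hαapp : ∀ x : U, ((α x : U) : G) = y * x * y⁻¹ := fun x => rfl
    have hα : (orderOf α).Coprime p := by
      have h1 : orderOf α ∣ orderOf y := by
        have := orderOf_map_dvd U.normalizerMonoidHom (⟨y, hyU⟩ : Subgroup.normalizer (U : Set G))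
        rwa [Subgroup.orderOf_mk] at this
      exact Nat.Coprime.coprime_dvd_left h1 hyp
    obtain ⟨D, hD1, hD2, hD3⟩ := Cfsg.Agent.Lib.Helper22.exists_small_exponent hU α hα
    have hα1 : α = 1 := by
      apply hD3
      intro x hx
      apply Subtype.ext
      rw [hαapp]
      apply key _ x.2
      have := congrArg Subtype.val (hD2 x hx)
      rwa [Subgroup.coe_pow] at this
    intro x hx
    have h3 : ((α ⟨x, hx⟩ : U) : G) = x := by rw [hα1]; rfl
    rwa [hαapp] at h3

/-- a `p'`-element normalizing `U ≤ P` acts trivially on `U` modulo a maximal subgroup `M` of `P` -/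
theorem good_of_coprime [Finite G] {p : ℕ} [Fact p.Prime] {P M : Subgroup G} (hP : IsPGroup p P)
    (hMP : M ≤ P) (hPM : P ≤ Subgroup.normalizer (M : Set G)) (hidx : M.relIndex P = p) (d : ℕ)
    (hd : 1 ≤ d) (hdP : p ^ d < Nat.card P)
    (hsc : ∀ E : Subgroup G, E ≤ P → (Nat.card E = p ^ d ∨ (p ^ d = 2 ∧ Nat.card E = 4)) →
      ∀ a ∈ E, ∀ g : G, g⁻¹ * a * g ∈ P → g⁻¹ * a * g ∈ E)
    {U : Subgroup G} (hUP : U ≤ P) (y : G) (hyU : y ∈ Subgroup.normalizer (U : Set G))
    (hyp : (orderOf y).Coprime p) (hy1 : (orderOf y).Coprime (p - 1)) :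
    ∀ a ∈ U, a⁻¹ * (y⁻¹ * a * y) ∈ M := by
  have hp : p.Prime := Fact.out
  have hconjU : ∀ a ∈ U, y * a * y⁻¹ ∈ U := fun a ha => (Subgroup.mem_normalizer_iff.mp hyU a).mp ha
  have hconjU' : ∀ a ∈ U, y⁻¹ * a * y ∈ U := fun a ha => by
    have := (Subgroup.mem_normalizer_iff.mp (inv_mem hyU) a).mp ha
    rwa [inv_inv] at this
  have hnorm : ∀ E : Subgroup G, E ≤ P → (Nat.card E = p ^ d ∨ (p ^ d = 2 ∧ Nat.card E = 4)) →
      ∀ a ∈ E, a ∈ U → y * a * y⁻¹ ∈ E := by
    intro E hE hf a ha haU
    have := hsc E hE hf a ha y⁻¹ (by rw [inv_inv]; exact hUP (hconjU a haU))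
    rwa [inv_inv] at this
  by_cases hU : p ^ d < Nat.card U
  · have hc := centralizes_of_fam d hd y hyp hy1 _ U rfl (hP.to_le hUP) hyU hU (by
      intro E hEU hf
      apply mem_normalizer_of_conj_mem
      intro e he
      exact hnorm E (hEU.trans hUP) hf e he (hEU he))
    intro a ha
    have h1 := hc a ha
    have h2 : y⁻¹ * a * y = a := by
      calc y⁻¹ * a * y = y⁻¹ * (y * a * y⁻¹) * y := by rw [h1]
        _ = a := by group
    rw [h2, inv_mul_cancel]; exact M.one_mem
  · rw [not_lt] at hU
    have hMc : p ^ d ≤ Nat.card M := by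
      have h1 := Subgroup.card_mul_index (M.subgroupOf P)
      have h2 : (M.subgroupOf P).index = p := hidx
      have h3 : Nat.card (M.subgroupOf P) = Nat.card M :=
        Nat.card_congr (Subgroup.subgroupOfEquivOfLe hMP).toEquiv
      rw [h2, h3] at h1
      obtain ⟨m, hm⟩ := (hP.to_le hMP).exists_card_eq
      rw [← h1, hm, ← pow_succ] at hdP
      have := (Nat.pow_lt_pow_iff_right hp.one_lt).mp hdP
      rw [hm]
      exact Nat.pow_le_pow_right hp.pos (by omega)
    obtain ⟨E', h1, h2, h3⟩ := exists_between (hP.to_le hMP) (inf_le_right : U ⊓ M ≤ M) (m := d)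
      ((Subgroup.card_le_of_le inf_le_left).trans hU) hMc
    have hyUM : y ∈ Subgroup.normalizer ((U ⊓ M : Subgroup G) : Set G) := by
      apply mem_normalizer_of_conj_mem
      intro e he
      have he' := Subgroup.mem_inf.mp he
      exact Subgroup.mem_inf.mpr ⟨hconjU e he'.1,
        h2 (hnorm E' (h2.trans hMP) (Or.inl h3) e (h1 he) he'.1)⟩
    by_cases hUM : U ≤ M
    · intro a ha
      exact M.mul_mem (M.inv_mem (hUM ha)) (hUM (hconjU' a ha))
    · have hidx' : (U ⊓ M).relIndex U = p := by
        rw [Subgroup.inf_relIndex_left]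
        have hn : (M.subgroupOf P).Normal :=
          (Subgroup.normal_subgroupOf_iff_le_normalizer hMP).mpr hPM
        have h4 : (M.subgroupOf P).relIndex (U.subgroupOf P) ∣ (M.subgroupOf P).index :=
          Subgroup.relIndex_dvd_index_of_normal _ _
        rw [Subgroup.relIndex_subgroupOf hUP] at h4
        have h5 : (M.subgroupOf P).index = p := hidx
        rw [h5] at h4
        rcases (Nat.dvd_prime hp).mp h4 with h6 | h6
        · exact absurd (Subgroup.relIndex_eq_one.mp h6) hUM
        · exact h6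
      have hUn : U ≤ Subgroup.normalizer ((U ⊓ M : Subgroup G) : Set G) :=
        Cfsg.Agent.Lib.Helper17.le_normalizer_inf Subgroup.le_normalizer (hUP.trans hPM)
      intro a ha
      exact (Subgroup.mem_inf.mp (comm_mem_of_relIndex_prime hUn hidx' y hyUM hyU hy1 a ha)).2

open Cfsg.Agent.Lib.Helper17 in
/-- `p` the smallest prime divisor, all subgroups of order `p ^ d` (and `4`) of a Sylow `p`-subgroup
strongly closed: then `G` is `p`-nilpotent. -/
theorem hasNormalPComplement_of_fam [Finite G] {p : ℕ} [Fact p.Prime]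
    (hmin : ∀ q : ℕ, q.Prime → q ∣ Nat.card G → p ≤ q) (P : Sylow p G) (d : ℕ) (hd : 1 ≤ d)
    (hdP : p ^ d < Nat.card (P : Subgroup G))
    (hsc : ∀ E : Subgroup G, E ≤ P → (Nat.card E = p ^ d ∨ (p ^ d = 2 ∧ Nat.card E = 4)) →
      ∀ a ∈ E, ∀ g : G, g⁻¹ * a * g ∈ (P : Subgroup G) → g⁻¹ * a * g ∈ E) :
    Cfsg.HasNormalPComplement p G := by
  have hp : p.Prime := Fact.out
  have hPres : Cfsg.pResidual p (P : Subgroup G) = ⊥ := by
    rw [eq_bot_iff, pResidual_le_iff]
    intro g hg
    obtain ⟨k, hk⟩ := (isPGroup_iff_pow_pow_eq_one.mp P.2) g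
    have h2 : orderOf g ∣ Nat.gcd (orderOf g) (p ^ k) :=
      Nat.dvd_gcd dvd_rfl (orderOf_dvd_of_pow_eq_one hk)
    rw [Nat.Coprime.pow_right k hg] at h2
    exact Subgroup.mem_bot.mpr (orderOf_eq_one_iff.mp (Nat.dvd_one.mp h2))
  have main : (Cfsg.pResidual p G).subgroupOf (P : Subgroup G) ≤
      Cfsg.pResidual p (P : Subgroup G) := by
    apply tate_index_p _ pResidual_le_closure (P : Subgroup G) P.not_dvd_index
      (pResidual_le_subgroupOf _)
    intro Y hYn hYi l hl
    set M := Y.map (P : Subgroup G).subtype with hM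
    have hMP : M ≤ P := Subgroup.map_subtype_le _
    have hPM : (P : Subgroup G) ≤ Subgroup.normalizer (M : Set G) := by
      apply le_normalizer_of_conj_mem
      rintro u hu _ ⟨w, hw, rfl⟩
      exact ⟨⟨u, hu⟩ * w * ⟨u, hu⟩⁻¹, hYn.conj_mem w hw ⟨u, hu⟩, rfl⟩
    have hidx : M.relIndex P = p := by
      rw [hM, Subgroup.relIndex, Subgroup.subgroupOf,
        Subgroup.comap_map_eq_self_of_injective (Subgroup.subtype_injective _), hYi]
    have hpp : p.Coprime (p - 1) :=
      coprime_pred hp (fun q hq hqp => ((Nat.prime_dvd_prime_iff_eq hq hp).mp hqp).ge) dvd_rfl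
    have hcomm : ∀ a ∈ (P : Subgroup G), ∀ s ∈ (P : Subgroup G), a⁻¹ * (s⁻¹ * a * s) ∈ M := by
      intro a ha s hs
      obtain ⟨k, hk⟩ := (isPGroup_iff_pow_pow_eq_one.mp P.2) ⟨s, hs⟩
      have hk' : s ^ p ^ k = 1 := congrArg Subtype.val hk
      obtain ⟨j, -, hj⟩ := (Nat.dvd_prime_pow hp).mp (orderOf_dvd_of_pow_eq_one hk')
      exact comm_mem_of_relIndex_prime hPM hidx s (hPM hs) (Subgroup.le_normalizer hs)
        (by rw [hj]; exact Nat.Coprime.pow_left _ hpp) a ha
    have hgood : ∀ A : Subgroup G, A ≤ P → ∀ g, cj A g ≤ P →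
        ∀ a ∈ A, a⁻¹ * (g⁻¹ * a * g) ∈ M := by
      apply alperin_core P (fun A g => ∀ a ∈ A, a⁻¹ * (g⁻¹ * a * g) ∈ M)
        (fun A B g hB h a ha => h a (hB ha))
        (fun A g h h1 h2 a ha => by
          have e : a⁻¹ * ((g * h)⁻¹ * a * (g * h)) =
            (a⁻¹ * (g⁻¹ * a * g)) * ((g⁻¹ * a * g)⁻¹ * (h⁻¹ * (g⁻¹ * a * g) * h)) := by group
          rw [e]
          exact mul_mem (h1 a ha) (h2 _ (conj_mem_cj ha)))
        (fun A g h c hc => by
          rw [mem_cj] at hc
          have := inv_mem (h _ hc)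
          convert this using 1
          group)
        Set.univ
      · intro A hA
        obtain ⟨h, h1, h2⟩ := exists_FN_conj P A (P.2.to_le hA)
        exact ⟨_, trivial, h1, ⟨h, rfl⟩, h2⟩
      · intro U _ hUP hFN _ y hy
        have hcU : ∀ z ∈ Subgroup.normalizer (U : Set G), ∀ a ∈ U, z⁻¹ * a * z ∈ U := by
          intro z hz a ha
          have := (Subgroup.mem_normalizer_iff.mp (inv_mem hz) a).mp ha
          rwa [inv_inv] at this
        let TU : Subgroup G :=
          { carrier := {z | z ∈ Subgroup.normalizer (U : Set G) ∧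
              ∀ a ∈ U, a⁻¹ * (z⁻¹ * a * z) ∈ M}
            mul_mem' := by
              rintro z w ⟨hz, hz'⟩ ⟨hw, hw'⟩
              refine ⟨mul_mem hz hw, fun a ha => ?_⟩
              have e : a⁻¹ * ((z * w)⁻¹ * a * (z * w)) =
                (a⁻¹ * (z⁻¹ * a * z)) * ((z⁻¹ * a * z)⁻¹ * (w⁻¹ * (z⁻¹ * a * z) * w)) := by group
              rw [e]
              exact mul_mem (hz' a ha) (hw' _ (hcU z hz a ha))
            one_mem' := ⟨one_mem _, fun a _ => by simp⟩
            inv_mem' := by
              rintro z ⟨hz, hz'⟩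
              refine ⟨inv_mem hz, fun a ha => ?_⟩
              have hb : z * a * z⁻¹ ∈ U := (Subgroup.mem_normalizer_iff.mp hz a).mp ha
              have := inv_mem (hz' _ hb)
              convert this using 1
              group }
        set C1 := Subgroup.closure {g : G | g ∈ Subgroup.normalizer (U : Set G) ∧
          (orderOf g).Coprime p} with hC1
        have hC1K : C1 ≤ Subgroup.normalizer (U : Set G) :=
          (Subgroup.closure_le _).mpr fun g hg => hg.1
        have hKC1 : Subgroup.normalizer (U : Set G) ≤ Subgroup.normalizer (C1 : Set G) := by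
          apply le_normalizer_of_conj_mem
          intro k hk x hx
          induction hx using Subgroup.closure_induction with
          | mem g hg =>
            apply Subgroup.subset_closure
            refine ⟨mul_mem (mul_mem hk hg.1) (inv_mem hk), ?_⟩
            have : orderOf (k * g * k⁻¹) = orderOf g :=
              orderOf_injective (MulAut.conj k).toMonoidHom (MulAut.conj k).injective g
            rw [this]; exact hg.2
          | one => simp
          | mul a b _ _ ha hb =>
            have e : k * (a * b) * k⁻¹ = (k * a * k⁻¹) * (k * b * k⁻¹) := by group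
            rw [e]; exact mul_mem ha hb
          | inv a _ ha =>
            have e : k * a⁻¹ * k⁻¹ = (k * a * k⁻¹)⁻¹ := by group
            rw [e]; exact inv_mem ha
        have hsup := le_sup_of_pow_mem (p := p) (T := (P : Subgroup G) ⊓
          Subgroup.normalizer (U : Set G)) hC1K hKC1 (by
            intro x hx
            obtain ⟨k, hk⟩ := exists_pow_p_pow_coprime (p := p) x
            exact ⟨k, Subgroup.subset_closure ⟨pow_mem hx _, hk⟩⟩) hFN
        have hle : C1 ⊔ ((P : Subgroup G) ⊓ Subgroup.normalizer (U : Set G)) ≤ TU := by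
          refine sup_le ((Subgroup.closure_le _).mpr ?_) ?_
          · intro g hg
            exact ⟨hg.1, good_of_coprime P.2 hMP hPM hidx d hd hdP hsc hUP g hg.1 hg.2
              (coprime_pred hp hmin (orderOf_dvd_natCard g))⟩
          · intro s hs
            obtain ⟨hs1, hs2⟩ := Subgroup.mem_inf.mp hs
            exact ⟨hs2, fun a ha => hcomm a (hUP ha) s hs1⟩
        exact (hle (hsup hy)).2
    have hfocal : (P : Subgroup G) ⊓ ⁅(⊤ : Subgroup G), ⊤⁆ ≤ M := by
      apply focal_rel P.2 (not_dvd_relIndex_top P)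
      intro a ha x _ hax
      exact hgood (Subgroup.closure {a})
        ((Subgroup.closure_le _).mpr (Set.singleton_subset_iff.mpr ha)) x
        (cj_closure_singleton_le hax) a (Subgroup.subset_closure rfl)
    obtain ⟨k, hk⟩ := (isPGroup_iff_pow_pow_eq_one.mp P.2) l
    have hk' : (l : G) ^ p ^ k = 1 := congrArg Subtype.val hk
    have h2 := hfocal (Subgroup.mem_inf.mpr ⟨l.2, by
      rw [← commutator_def]
      exact mem_commutator_of_mem_pResidual (Subgroup.mem_subgroupOf.mp hl) hk'⟩)
    obtain ⟨w, hw, e⟩ := h2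
    have : w = l := Subtype.ext e
    rwa [this] at hw
  rw [hPres] at main
  refine ⟨P, Cfsg.pResidual p G, inferInstance, ?_⟩
  apply Subgroup.isComplement'_of_disjoint_and_mul_eq_univ
  · rw [disjoint_iff, eq_bot_iff]
    rintro x ⟨hx1, hx2⟩
    have := main (Subgroup.mem_subgroupOf.mpr hx1 : (⟨x, hx2⟩ : (P : Subgroup G)) ∈ _)
    exact Subgroup.mem_bot.mpr (congrArg Subtype.val (Subgroup.mem_bot.mp this))
  · rw [← Subgroup.normal_mul, pResidual_sup_sylow]
    rfl

end Cfsg.Agent.Lib.Helper23.HSub
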