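import Mathlib

set_option autoImplicit false

namespace Cfsg.Agent.Lib.Helper23

open Equiv Equiv.Perm
open scoped commutatorElement

def inV (s : Perm (Fin 4)) : Prop := s * s = 1 ∧ (s = 1 ∨ ∀ x, s x ≠ x)

instance inV_decidable : DecidablePred inV := fun s => by unfold inV; infer_instance

set_option maxRecDepth 100000 in
theorem inV_mul : ∀ a b : Perm (Fin 4), inV a → inV b → inV (a * b) ∧ a * b = b * a := by decide

set_option maxRecDepth 100000 in
theorem inV_inv : ∀ a : Perm (Fin 4), inV a → inV a⁻¹ := by decide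

set_option maxRecDepth 100000 in
theorem inV_comm : ∀ a b : Perm (Fin 4), sign a = 1 → sign b = 1 → inV (a * b * a⁻¹ * b⁻¹) := by
  decide

def V4 : Subgroup (Perm (Fin 4)) where
  carrier := {s | inV s}
  mul_mem' := fun {a b} ha hb => (inV_mul a b ha hb).1
  one_mem' := by decide
  inv_mem' := fun {a} ha => inV_inv a ha

theorem perm_fin4_solvable : Group.IsSolvable (Perm (Fin 4)) := by
  refine ⟨⟨3, ?_⟩⟩
  have h1 : derivedSeries (Perm (Fin 4)) 1 ≤ (sign : Perm (Fin 4) →* ℤˣ).ker := by
    rw [derivedSeries_succ, Subgroup.commutator_le]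
    intro a _ b _
    rw [MonoidHom.mem_ker, map_commutatorElement]
    exact commutatorElement_eq_one_iff_commute.2 (Commute.all _ _)
  have h2 : derivedSeries (Perm (Fin 4)) 2 ≤ V4 := by
    rw [derivedSeries_succ]
    refine (Subgroup.commutator_mono h1 h1).trans ?_
    rw [Subgroup.commutator_le]
    intro a ha b hb
    exact inV_comm a b ha hb
  rw [derivedSeries_succ, eq_bot_iff]
  refine (Subgroup.commutator_mono h2 h2).trans ?_
  rw [Subgroup.commutator_le]
  intro a ha b hb
  rw [Subgroup.mem_bot]
  exact commutatorElement_eq_one_iff_commute.2 (inV_mul a b ha hb).2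

theorem perm_solvable_of_card_le {β : Type*} [Fintype β] [DecidableEq β]
    (h : Fintype.card β ≤ 4) : Group.IsSolvable (Perm β) := by
  obtain ⟨ι⟩ : Nonempty (β ↪ Fin 4) :=
    Function.Embedding.nonempty_of_card_le (by simpa using h)
  have := perm_fin4_solvable
  exact Group.isSolvable_of_isSolvable_injective (Equiv.Perm.viaEmbeddingHom_injective ι)

theorem isSolvable_of_le' {G : Type*} [Group G] {H K : Subgroup G} (h : H ≤ K)
    (hK : Group.IsSolvable K) : Group.IsSolvable H :=
  Group.isSolvable_of_isSolvable_injective (f := Subgroup.inclusion h)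
    (Subgroup.inclusion_injective h)

/-- Permutations supported on at most four points generate a solvable group. -/
theorem solvable_closure_of_support {α : Type*} [DecidableEq α] [Fintype α] (T : Finset α)
    (hT : T.card ≤ 4) (S : Set (Perm α)) (hS : ∀ σ ∈ S, σ.support ⊆ T) :
    Group.IsSolvable (Subgroup.closure S) := by
  have h1 : Group.IsSolvable (Perm {x // x ∈ T}) :=
    perm_solvable_of_card_le (by simpa using hT)
  have h2 : Group.IsSolvable (ofSubtype : Perm {x // x ∈ T} →* Perm α).range :=
    Group.isSolvable_of_surjective (MonoidHom.rangeRestrict_surjective _)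
  apply isSolvable_of_le' _ h2
  rw [Subgroup.closure_le]
  intro σ hσ
  rw [SetLike.mem_coe, mem_range_ofSubtype_iff]
  intro x hx
  exact hS σ hσ hx

/-- Two commuting solvable subgroups generate a solvable subgroup. -/
theorem solvable_sup_of_commute {G : Type*} [Group G] (A K : Subgroup G)
    (hA : Group.IsSolvable A) (hK : Group.IsSolvable K)
    (hc : ∀ a ∈ A, ∀ k ∈ K, Commute a k) : Group.IsSolvable (A ⊔ K : Subgroup G) := by
  let f : A × K →* G := MonoidHom.noncommCoprod A.subtype K.subtype
    (fun a k => hc a a.2 k k.2)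
  have h2 : Group.IsSolvable f.range :=
    Group.isSolvable_of_surjective (MonoidHom.rangeRestrict_surjective _)
  apply isSolvable_of_le' _ h2
  apply sup_le
  · intro a ha
    refine ⟨(⟨a, ha⟩, 1), ?_⟩
    show A.subtype ⟨a, ha⟩ * K.subtype 1 = a
    simp
  · intro k hk
    refine ⟨(1, ⟨k, hk⟩), ?_⟩
    show A.subtype 1 * K.subtype ⟨k, hk⟩ = k
    simp

end Cfsg.Agent.Lib.Helper23
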