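import Cfsg.Agent.Lib.Helper23.SylNum

set_option autoImplicit false

namespace Cfsg.Agent.Lib.Helper23

open Cfsg.Agent.Lib.Helper17

variable {G : Type*} [Group G]

theorem le_normalizer_of_normal' (K X : Subgroup G) [hK : K.Normal] :
    X ≤ Subgroup.normalizer (K : Set G) := by
  rw [Subgroup.normalizer_eq_top_iff.2 hK]; exact le_top

theorem normalizer_sup_eq_of_le_normalizer [Finite G] {p : ℕ} [Fact p.Prime] (K : Subgroup G)
    [K.Normal] (P : Sylow p G) (hK : K ≤ Subgroup.normalizer ((P : Subgroup G) : Set G)) :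
    Subgroup.normalizer (((P : Subgroup G) ⊔ K : Subgroup G) : Set G) =
      Subgroup.normalizer ((P : Subgroup G) : Set G) := by
  apply le_antisymm
  · intro g hg
    have hS : IsSyl p (P : Subgroup G) ((P : Subgroup G) ⊔ K) :=
      (isSyl_top P).of_le le_sup_left le_top
    obtain ⟨m, hm, hme⟩ := hS.conj (hS.map_conj_of_mem hg)
    have hm' : m ∈ Subgroup.normalizer ((P : Subgroup G) : Set G) :=
      (sup_le Subgroup.le_normalizer hK) hm
    rw [map_conj_eq_of_mem_normalizer hm'] at hme
    exact mem_normalizer_iff_map_conj.2 hme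
  · exact le_normalizer_sup le_rfl (le_normalizer_of_normal' K _)

theorem card_sylow_quotient_of_le_normalizer [Finite G] {p : ℕ} [Fact p.Prime] (K : Subgroup G)
    [K.Normal] (P : Sylow p G) (hK : K ≤ Subgroup.normalizer ((P : Subgroup G) : Set G)) :
    Nat.card (Sylow p (G ⧸ K)) = Nat.card (Sylow p G) := by
  rw [card_sylow_quotient K P, normalizer_sup_eq_of_le_normalizer K P hK, card_sylow_eq_index P]

theorem card_sylow_quotient_center [Finite G] (p : ℕ) [Fact p.Prime] :
    Nat.card (Sylow p (G ⧸ Subgroup.center G)) = Nat.card (Sylow p G) := by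
  obtain ⟨P⟩ : Nonempty (Sylow p G) := inferInstance
  apply card_sylow_quotient_of_le_normalizer _ P
  exact (Subgroup.center_le_centralizer _).trans (centralizer_le_normalizer' _)

theorem sylow_le_of_normal_of_not_dvd_index [Finite G] {p : ℕ} [hp : Fact p.Prime]
    (H : Subgroup G) [H.Normal] (hH : ¬ p ∣ H.index) (P : Sylow p G) : (P : Subgroup G) ≤ H := by
  intro x hx
  obtain ⟨k, hk⟩ := P.2 ⟨x, hx⟩
  have hk' : x ^ p ^ k = 1 := by
    have := congrArg Subtype.val hk
    simpa using this
  have h1 : x ^ H.index ∈ H := H.pow_index_mem x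
  have hcop : Nat.Coprime H.index (orderOf x) := by
    have h2 : orderOf x ∣ p ^ k := orderOf_dvd_of_pow_eq_one hk'
    apply Nat.Coprime.coprime_dvd_right h2
    exact Nat.Coprime.pow_right k ((Nat.Prime.coprime_iff_not_dvd hp.out).2 hH).symm
  obtain ⟨j, hj⟩ := exists_pow_eq_self_of_coprime hcop
  rw [← hj]
  exact pow_mem h1 j

/-- If `N_G(P) K = G` with `K` normal then the Sylow number is `|K : N_K(P)|`. -/
theorem card_sylow_eq_relIndex_of_sup_eq_top [Finite G] {p : ℕ} [Fact p.Prime] (K : Subgroup G)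
    [K.Normal] (P : Sylow p G)
    (h : Subgroup.normalizer ((P : Subgroup G) : Set G) ⊔ K = ⊤) :
    Nat.card (Sylow p G) = (Subgroup.normalizer ((P : Subgroup G) : Set G)).relIndex K := by
  rw [card_sylow_eq_index P, relIndex_eq_relIndex_sup, h, Subgroup.relIndex_top_right]

theorem card_sylow_normal_of_not_dvd_index [Finite G] {p : ℕ} [Fact p.Prime]
    (H : Subgroup G) [H.Normal] (hH : ¬ p ∣ H.index) :
    Nat.card (Sylow p H) = Nat.card (Sylow p G) := by
  obtain ⟨P⟩ : Nonempty (Sylow p G) := inferInstance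
  have hPH := sylow_le_of_normal_of_not_dvd_index H hH P
  have hS : IsSyl p (P : Subgroup G) H := (isSyl_top P).of_le hPH le_top
  rw [card_sylow_eq_relIndex hS]
  symm
  apply card_sylow_eq_relIndex_of_sup_eq_top
  rw [eq_top_iff]
  intro m _
  obtain ⟨n, hn, hnm⟩ := frattini_arg hS (M := ⊤) (le_normalizer_of_normal' H _) (Subgroup.mem_top m)
  have e : m = n * (n⁻¹ * m) := by group
  rw [e]
  exact mul_mem ((le_sup_right : H ≤ _) hn) ((le_sup_left : _ ≤ _ ⊔ H) hnm)

end Cfsg.Agent.Lib.Helper23
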